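import Cfsg.Agent.Lib.KnownA.HeldSchur.Data
import Cfsg.Agent.Lib.InvChar.SporHe

/-!
The kernel checks of `SchurCert` for the presented Held group acting on 2058 points.
-/

set_option autoImplicit false
set_option maxRecDepth 100000

namespace CfsgLib.KnownA.HeldSchur

open CfsgLib.KnownA.SchurCert (Cert Ops Ev)
open CfsgLib.InvChar CfsgLib.InvChar.Coset
open Cfsg.Spor (He)

/-- The base. -/
def baseL : List ℕ := [0, 1, 15, 34]

/-- Only the identity fixes the base. -/
theorem base_trivial (a : He) (ha : ∀ i : Fin HeA.table.n, (i : ℕ) ∈ baseL → SporHe.rep a i = i) :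
    a = 1 := by
  have r0 := Table.realises_range HeA.valid HeA.sq SporHe.gen SporHe.rep SporHe.rep_gen
  have r1' := r0.derived HeA.table HeA.tab1 HeA.words1 (by decide) (by decide +kernel) HeA.derived1
  have r1 := Table.Realises.inf_stabilizer (T := HeA.tab1) r1' (⟨0, by decide +kernel⟩ : Fin HeA.table.n) (by intro x hx; have hx : x < 4 := hx; revert x; decide +kernel)
  have r2' := r1.derived HeA.tab1 HeA.tab2 HeA.words2 (by decide) (by decide +kernel) HeA.derived2
  have r2 := Table.Realises.inf_stabilizer (T := HeA.tab2) r2' (⟨1, by decide +kernel⟩ : Fin HeA.table.n) (by intro x hx; have hx : x < 4 := hx; revert x; decide +kernel)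
  have r3' := r2.derived HeA.tab2 HeA.tab3 HeA.words3 (by decide) (by decide +kernel) HeA.derived3
  have r3 := Table.Realises.inf_stabilizer (T := HeA.tab3) r3' (⟨15, by decide +kernel⟩ : Fin HeA.table.n) (by intro x hx; have hx : x < 4 := hx; revert x; decide +kernel)
  have c3 := fun N hN => Table.card_ge_step (T := HeA.tab3) (n := HeA.table.n) rfl r3 (S := [[0], [1], [2], [3]]) (by decide +kernel) (by decide) HeA.orbit3_ok ⟨34, by decide +kernel⟩ HeA.base3.symm (N := N) hN
  have c2 := fun N hN => Table.card_ge_step (T := HeA.tab2) (n := HeA.table.n) rfl r2 (S := [[0], [1], [2], [3]]) (by decide +kernel) (by decide) HeA.orbit2_ok ⟨15, by decide +kernel⟩ HeA.base2.symm (c3 N hN)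
  have c1 := fun N hN => Table.card_ge_step (T := HeA.tab1) (n := HeA.table.n) rfl r1 (S := [[0], [1], [2], [3]]) (by decide +kernel) (by decide) HeA.orbit1_ok ⟨1, by decide +kernel⟩ HeA.base1.symm (c2 N hN)
  have c0 := fun N hN => Table.card_ge_step (T := HeA.table) (n := HeA.table.n) rfl r0 (S := [[0], [1], [2], [3], [4], [5], [6]]) (by decide +kernel) (by decide) HeA.orbit0_ok ⟨0, by decide +kernel⟩ HeA.base0.symm (c1 N hN)
  by_contra hne
  have hG : Nat.card SporHe.rep.range = 4030387200 := by
    rw [← Nat.card_congr (MonoidHom.ofInjective SporHe.card_eq.2).toEquiv, SporHe.card_eq.1]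
  refine absurd (c0 2 ?_) ?_
  · refine Finite.one_lt_card_iff_nontrivial.2 ((Subgroup.nontrivial_iff_exists_ne_one _).2
      ⟨SporHe.rep a, ?_, fun h => hne (SporHe.card_eq.2 (h.trans (map_one SporHe.rep).symm))⟩)
    simp only [Subgroup.mem_inf, MonoidHom.mem_range, MulAction.mem_stabilizer_iff, Equiv.Perm.smul_def]
    refine ⟨⟨⟨⟨⟨a, rfl⟩, ?_⟩, ?_⟩, ?_⟩, ?_⟩ <;> exact ha _ (by simp [baseL])
  · rw [hG]
    norm_num

/-- The image of a point under a packed permutation. -/
def pimg (c i : ℕ) : ℕ := Nat.shiftRight c (12 * i) % 4096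

/-- The image of a point under a word in packed permutations. -/
noncomputable def runC (codes w : List ℕ) (i : ℕ) : ℕ :=
  w.foldl (fun j k => force j fun j => bif Nat.blt k codes.length then pimg (codes.getD k 0) j else j) i

/-- Two words act alike on the base. -/
noncomputable def eqc (codes w w' : List ℕ) : Bool :=
  baseL.all fun i => Nat.beq (runC codes w i) (runC codes w' i)

/-- A packed permutation is that of its word. -/
noncomputable def chkCode (c : ℕ) (L : List ℕ) : Bool :=
  L.all (fun x => Nat.blt x 7) &&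
    (List.range 2058).all fun i => Nat.beq (HeA.table.follow L i) (pimg c i)

/-- The packed permutations are those of the words. -/
noncomputable def chkCodes (codes : List ℕ) (words : List (List ℕ)) : Bool :=
  Nat.beq codes.length words.length &&
  ((List.range codes.length).all fun k => chkCode (codes.getD k 0) (words.getD k []))

/-- All the checks. -/
noncomputable def allOK {V : Type} (o : Ops V) (C : Cert V) (extras : List ℕ) (codes : List ℕ) : Bool :=
  C.presOK (eqc codes) && C.edgesOK o && C.injOK (eqc codes) && C.consOK (eqc codes) &&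
    C.finalOK o extras

/-- The element of a word, an unlisted one giving the identity. -/
noncomputable def gen (words : List (List ℕ)) (k : ℕ) : He :=
  Coset.wprod SporHe.gen (words.getD k [])

theorem follow_rep (L : List ℕ) (hL : ∀ x ∈ L, x < 7) (i : Fin HeA.table.n) :
    HeA.table.follow L i =
      ((SporHe.rep (Coset.wprod SporHe.gen L))⁻¹ i : Fin HeA.table.n) := by
  rw [Coset.map_wprod SporHe.rep SporHe.gen SporHe.perm L fun x hx => SporHe.rep_gen x (hL x hx)]
  exact HeA.valid.follow_eq HeA.sq L hL i

theorem pimg_gen {codes : List ℕ} {words : List (List ℕ)} (h : chkCodes codes words = true) {k : ℕ}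
    (hk : k < codes.length) (i : Fin HeA.table.n) :
    pimg (codes.getD k 0) i = ((SporHe.rep (gen words k))⁻¹ i : Fin HeA.table.n) := by
  simp only [chkCodes, chkCode, Bool.and_eq_true, List.all_eq_true, List.mem_range] at h
  obtain ⟨h1, h2⟩ := h.2 k hk
  rw [gen, ← follow_rep _ (fun x hx => by simpa [Nat.blt] using h1 x hx) i,
    Nat.eq_of_beq_eq_true (h2 i i.2)]

theorem gen_unlisted {codes : List ℕ} {words : List (List ℕ)} (h : chkCodes codes words = true)
    {k : ℕ} (hk : ¬ k < codes.length) : gen words k = 1 := by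
  simp only [chkCodes, Bool.and_eq_true] at h
  rw [Nat.eq_of_beq_eq_true h.1, Nat.not_lt] at hk
  rw [gen, List.getD_eq_default _ _ hk]
  rfl

theorem runC_eq {codes : List ℕ} {words : List (List ℕ)} (h : chkCodes codes words = true) :
    ∀ (w : List ℕ) (i : Fin HeA.table.n),
      runC codes w i =
        ((SporHe.rep (SchurCert.wprod (gen words) w))⁻¹ i : Fin HeA.table.n) := by
  intro w
  induction w with
  | nil => intro i; simp [runC, SchurCert.wprod]
  | cons k w ih =>
    intro i
    simp only [runC, List.foldl_cons]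
    rw [force_eq]
    show runC codes w (bif Nat.blt k codes.length then pimg (codes.getD k 0) i else i) = _
    have hstep : (bif Nat.blt k codes.length then pimg (codes.getD k 0) i else (i : ℕ)) =
        ((SporHe.rep (gen words k))⁻¹ i : Fin HeA.table.n) := by
      cases hb : Nat.blt k codes.length
      · rw [gen_unlisted h fun hlt => by simp [Nat.blt, Nat.ble_eq_true_of_le (Nat.succ_le_of_lt hlt)] at hb,
          map_one, inv_one]
        rfl
      · exact pimg_gen h (by simpa [Nat.blt] using hb) i
    rw [hstep, ih]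
    show _ = (((SporHe.rep (gen words k * SchurCert.wprod (gen words) w))⁻¹ i :
      Fin HeA.table.n) : ℕ)
    rw [map_mul, mul_inv_rev, Equiv.Perm.mul_apply]

/-- The word comparison is exact. -/
theorem eqc_iff {codes : List ℕ} {words : List (List ℕ)} (h : chkCodes codes words = true)
    (w w' : List ℕ) :
    eqc codes w w' = true ↔ SchurCert.wprod (gen words) w = SchurCert.wprod (gen words) w' := by
  constructor
  · intro he
    simp only [eqc, List.all_eq_true] at he
    refine mul_inv_eq_one.1 (base_trivial _ fun i hi => ?_)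
    have e := Fin.ext ((runC_eq h w i).symm.trans
      ((Nat.eq_of_beq_eq_true (he i hi)).trans (runC_eq h w' i)))
    rw [map_mul, map_inv, Equiv.Perm.mul_apply, ← e, Equiv.Perm.coe_inv, Equiv.apply_symm_apply]
  · intro e
    simp only [eqc, List.all_eq_true]
    intro i hi
    have hlt : i < HeA.table.n := (by decide +kernel : ∀ i ∈ baseL, i < HeA.table.n) i hi
    rw [runC_eq h w ⟨i, hlt⟩, runC_eq h w' ⟨i, hlt⟩, e]
    exact Nat.beq_refl _

/-- A checked certificate kills the kernels of exponent `p`. -/
theorem ker_eq_bot {V : Type} (o : Ops V) (C : Cert V) (codes : List ℕ) (words : List (List ℕ))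
    (hev : ∀ {K : Type} [CommGroup K] (τ : ℕ → K), (∀ x : K, x ^ C.p = 1) →
      Nonempty (Ev o C.rels.length τ))
    (hcard : Nat.Coprime C.p (4030387200 / C.N)) (hcodes : chkCodes codes words = true)
    (h : allOK o C [] codes = true)
    {Γ : Type} [Group Γ] [Finite Γ] {σ : Γ →* He} (hσ : Cfsg.IsStemExtension σ)
    (hexp : ∀ x ∈ σ.ker, x ^ C.p = 1) : σ.ker = ⊥ := by
  simp only [allOK, Bool.and_eq_true] at h
  obtain ⟨⟨⟨⟨h1, h2⟩, h3⟩, h4⟩, h5⟩ := h
  haveI : Finite He := SporHe.card_le.1
  obtain ⟨t, -, hle⟩ := SchurCert.ker_le_of_cert (eqc codes) (gen words)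
    (fun w w' e => (eqc_iff hcodes w w').1 e)
    (fun w w' e e' => by rw [(eqc_iff hcodes w w').2 e'] at e; exact Bool.noConfusion e) o C [] hev
    (by rw [SporHe.card_eq.1]; exact hcard) h1 h2 h3 h4 h5 hσ hexp
  simpa using hle

end CfsgLib.KnownA.HeldSchur
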