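import Cfsg.Agent.Lib.KnownA.HeldSchur.Check

/-! The certificates at the odd primes are valid. -/

set_option autoImplicit false
set_option maxRecDepth 100000
set_option maxHeartbeats 0
set_option Elab.async false

namespace CfsgLib.KnownA.HeldSchur

open CfsgLib.KnownA.SchurCert (modOps)

theorem chk3 : chkCodes codes3 words3 = true := by decide +kernel
theorem chk5 : chkCodes codes5 words5 = true := by decide +kernel
theorem chk7 : chkCodes codes7 words7 = true := by decide +kernel
theorem chk17 : chkCodes codes17 words17 = true := by decide +kernel

theorem ok3 : allOK (modOps 3 6) cert3 [] codes3 = true := by decide +kernel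
theorem ok5 : allOK (modOps 5 3) cert5 [] codes5 = true := by decide +kernel
theorem ok7 : allOK (modOps 7 6) cert7 [] codes7 = true := by decide +kernel
theorem ok17 : allOK (modOps 17 1) cert17 [] codes17 = true := by decide +kernel

end CfsgLib.KnownA.HeldSchur
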