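import Cfsg.Agent.Lib.KnownA.HeldSchur.Check

/-! The certificate at the prime 2 is valid. -/

set_option autoImplicit false
set_option maxRecDepth 100000
set_option maxHeartbeats 0
set_option Elab.async false

namespace CfsgLib.KnownA.HeldSchur

open CfsgLib.KnownA.SchurCert (bitOps)

theorem chk2 : chkCodes codes2 words2 = true := by decide +kernel

theorem ok2 : allOK bitOps cert2 [] codes2 = true := by decide +kernel

end CfsgLib.KnownA.HeldSchur
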