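import Cfsg.Agent.Lib.KnownA.HeldSchur.Checks
import Cfsg.Agent.Lib.KnownA.HeldSchur.ChecksTwo
import Cfsg.Agent.Lib.Coprime.SchurAbelian

/-!
The Schur multiplier of the presented Held group is trivial.
-/

set_option autoImplicit false
set_option maxRecDepth 100000

namespace CfsgLib.KnownA.HeldSchur

open CfsgLib.InvChar
open CfsgLib.KnownA.SchurCert
open Cfsg.Spor (He)

/-- The kernel of a stem extension is trivial. -/
theorem bound (Γ : Type) [Group Γ] [Finite Γ] (σ : Γ →* He) (hσ : Cfsg.IsStemExtension σ) :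
    Nat.card σ.ker = 1 := by
  haveI : Finite He := SporHe.card_le.1
  by_contra hne
  obtain ⟨p, hp, hdvd⟩ := Nat.exists_prime_and_dvd hne
  have : Fact p.Prime := ⟨hp⟩
  obtain ⟨z, hz⟩ := exists_prime_orderOf_dvd_card' p hdvd
  have hpG : p ∣ 4030387200 := by
    rw [← SporHe.card_eq.1, ← hz, ← Subgroup.orderOf_coe, orderOf_dvd_iff_pow_eq_one]
    exact ker_pow_card hσ (z : Γ) z.2
  have hcases : p = 2 ∨ p = 3 ∨ p = 5 ∨ p = 7 ∨ p = 17 := by
    have h : (4030387200 : ℕ) = 2 ^ 10 * 3 ^ 3 * 5 ^ 2 * 7 ^ 3 * 17 := by norm_num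
    rw [h] at hpG
    have q := fun {r : ℕ} (hr : r.Prime) (h : p ∣ r) => (Nat.prime_dvd_prime_iff_eq hp hr).1 h
    rcases (Nat.Prime.dvd_mul hp).1 hpG with h | h
    · rcases (Nat.Prime.dvd_mul hp).1 h with h | h
      · rcases (Nat.Prime.dvd_mul hp).1 h with h | h
        · rcases (Nat.Prime.dvd_mul hp).1 h with h | h
          · exact Or.inl (q Nat.prime_two (hp.dvd_of_dvd_pow h))
          · exact Or.inr (Or.inl (q Nat.prime_three (hp.dvd_of_dvd_pow h)))
        · exact Or.inr (Or.inr (Or.inl (q (by norm_num) (hp.dvd_of_dvd_pow h))))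
      · exact Or.inr (Or.inr (Or.inr (Or.inl (q (by norm_num) (hp.dvd_of_dvd_pow h)))))
    · exact Or.inr (Or.inr (Or.inr (Or.inr (q (by norm_num) h))))
  refine prime_not_dvd_ker p (fun Δ _ _ τ hτ he => ?_) hσ hdvd
  rcases hcases with rfl | rfl | rfl | rfl | rfl
  · exact ker_eq_bot _ cert2 codes2 words2 (fun τ h => ⟨bitEv _ τ h⟩) (by decide +kernel) chk2 ok2 hτ he
  · exact ker_eq_bot _ cert3 codes3 words3 (fun τ h => ⟨modEv 3 _ τ h⟩) (by decide +kernel) chk3 ok3 hτ he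
  · exact ker_eq_bot _ cert5 codes5 words5 (fun τ h => ⟨modEv 5 _ τ h⟩) (by decide +kernel) chk5 ok5 hτ he
  · exact ker_eq_bot _ cert7 codes7 words7 (fun τ h => ⟨modEv 7 _ τ h⟩) (by decide +kernel) chk7 ok7 hτ he
  · exact ker_eq_bot _ cert17 codes17 words17 (fun τ h => ⟨modEv 17 _ τ h⟩) (by decide +kernel) chk17 ok17
      hτ he

theorem multiplier : Cfsg.HasCyclicSchurMultiplier He 1 := by
  haveI : Finite He := SporHe.card_le.1
  have hst : Cfsg.IsStemExtension (MonoidHom.id He) :=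
    ⟨fun x => ⟨x, rfl⟩, fun x hx => by obtain rfl : x = 1 := MonoidHom.mem_ker.1 hx; exact one_mem _,
      fun x hx => by obtain rfl : x = 1 := MonoidHom.mem_ker.1 hx; exact one_mem _⟩
  refine CfsgLib.Schur.hasCyclicSchurMultiplier_of_bound' hst ?_ fun Γ _ _ σ hσ => ?_
  · rw [Subgroup.card_eq_one, MonoidHom.ker_eq_bot_iff]
    exact fun _ _ h => h
  · have h := bound Γ σ hσ
    exact ⟨by have := Subgroup.card_eq_one.1 h; rw [this]; infer_instance, by rw [h]⟩

end CfsgLib.KnownA.HeldSchur
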